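import Mathlib

/-!
Congruence orbits of nonzero symmetric matrices over a finite field of odd order have at least
`(q ^ n - 1) / 2` elements.
-/

set_option autoImplicit false

namespace Cfsg.Agent.Weil

open Matrix

variable {F : Type*} [Field F] {n : ℕ}

theorem exists_pair_map {t : F} (ht : t ≠ 0) (x w u s : Fin n → F) (hx : w ⬝ᵥ x = t) (hu : s ⬝ᵥ u = t) :
    ∃ A : Matrix (Fin n) (Fin n) F, IsUnit A ∧ A *ᵥ x = u ∧ Aᵀ *ᵥ s = w := by
  classical
  let f : (Fin n → F) →ₗ[F] F := dotProductBilin F F w
  let g : (Fin n → F) →ₗ[F] F := dotProductBilin F F s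
  have hfx : f x = t := hx
  have hgu : g u = t := hu
  have hker : ∀ (φ : (Fin n → F) →ₗ[F] F) (y : Fin n → F), φ y = t →
      Module.finrank F (LinearMap.ker φ) + 1 = n := by
    intro φ y hy
    have hr : LinearMap.range φ = ⊤ := by
      refine LinearMap.range_eq_top.2 fun c => ⟨(c / t) • y, ?_⟩
      simp [hy, ht]
    have := φ.finrank_range_add_finrank_ker
    rw [hr, finrank_top, Module.finrank_self, Module.finrank_fintype_fun_eq_card, Fintype.card_fin] at this
    omega
  have hdim : Module.finrank F (LinearMap.ker f) = Module.finrank F (LinearMap.ker g) := by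
    have h1 := hker f x hfx
    have h2 := hker g u hgu
    omega
  let e := LinearEquiv.ofFinrankEq _ _ hdim
  let p : (Fin n → F) →ₗ[F] LinearMap.ker f :=
    LinearMap.codRestrict (LinearMap.ker f) (LinearMap.id - ((t⁻¹ • f).smulRight x)) fun y => by
      simp [LinearMap.mem_ker, hfx, mul_comm, ht]
  have hp : ∀ y, (p y : Fin n → F) = y - (t⁻¹ * f y) • x := fun y => rfl
  let L : (Fin n → F) →ₗ[F] (Fin n → F) :=
    (t⁻¹ • f).smulRight u + (LinearMap.ker g).subtype.comp (e.toLinearMap.comp p)
  have hgL : ∀ y, g (L y) = f y := by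
    intro y
    have : g ((e (p y)) : Fin n → F) = 0 := (e (p y)).2
    simp [L, hgu, this, mul_comm, ht]
  have hinj : Function.Injective L := by
    rw [injective_iff_map_eq_zero]
    intro y hy
    have hfy : f y = 0 := by rw [← hgL, hy, map_zero]
    have h1 : e (p y) = 0 := by
      apply Subtype.ext
      simpa [L, hfy] using hy
    rw [e.map_eq_zero_iff] at h1
    have := congrArg (fun z : LinearMap.ker f => (z : Fin n → F)) h1
    simpa [hp, hfy] using this
  refine ⟨LinearMap.toMatrix' L, Matrix.mulVec_injective_iff_isUnit.1 ?_, ?_, ?_⟩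
  · intro a b hab
    simp only [LinearMap.toMatrix'_mulVec] at hab
    exact hinj hab
  · have h0 : p x = 0 := Subtype.ext (by simp [hp, hfx, ht])
    rw [LinearMap.toMatrix'_mulVec]
    simp [L, h0, hfx, ht]
  · refine dotProduct_eq _ _ fun y => ?_
    rw [Matrix.mulVec_transpose, ← Matrix.dotProduct_mulVec, LinearMap.toMatrix'_mulVec]
    exact hgL y

theorem exists_map (v w : Fin n → F) (hv : v ≠ 0) (hw : w ≠ 0) :
    ∃ A : Matrix (Fin n) (Fin n) F, IsUnit A ∧ A *ᵥ v = w := by
  classical
  obtain ⟨i, hi⟩ := Function.ne_iff.1 hv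
  obtain ⟨j, hj⟩ := Function.ne_iff.1 hw
  obtain ⟨A, hA, h1, -⟩ := exists_pair_map (one_ne_zero (α := F)) v (Pi.single i (v i)⁻¹) w
    (Pi.single j (w j)⁻¹) (by simpa using inv_mul_cancel₀ hi) (by simpa using inv_mul_cancel₀ hj)
  exact ⟨A, hA, h1⟩

theorem eq_zero_of_forall_quad {S : Matrix (Fin n) (Fin n) F} (h2 : (2 : F) ≠ 0) (hS : S.IsSymm)
    (h : ∀ u : Fin n → F, u ⬝ᵥ S *ᵥ u = 0) : S = 0 := by
  classical
  have hd : ∀ i, S i i = 0 := fun i => by simpa using h (Pi.single i 1)
  ext i j
  have := h (Pi.single i 1 + Pi.single j 1)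
  rw [Matrix.mulVec_add, dotProduct_add, add_dotProduct, add_dotProduct] at this
  simp [hd, hS.apply i j] at this
  have hh : (2 : F) * S i j = 0 := by linear_combination this
  simpa [h2] using hh

theorem orbit_card [Fintype F] [DecidableEq F] (hodd : Odd (Fintype.card F))
    (T : Finset (Matrix (Fin n) (Fin n) F))
    (hT : ∀ S ∈ T, ∀ A : Matrix (Fin n) (Fin n) F, IsUnit A → A * S * Aᵀ ∈ T)
    {S : Matrix (Fin n) (Fin n) F} (hmem : S ∈ T) (hS : S.IsSymm) (hS0 : S ≠ 0) :
    Fintype.card F ^ n - 1 ≤ 2 * T.card := by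
  have h2 : (2 : F) ≠ 0 := by
    refine Ring.two_ne_zero fun h => ?_
    have := FiniteField.even_card_iff_char_two.1 h
    obtain ⟨k, hk⟩ := hodd
    omega
  obtain ⟨u, hu⟩ : ∃ u : Fin n → F, u ⬝ᵥ S *ᵥ u ≠ 0 := by
    by_contra hc
    push Not at hc
    exact hS0 (eq_zero_of_forall_quad h2 hS hc)
  set c := u ⬝ᵥ S *ᵥ u with hc
  set v := S *ᵥ u with hv
  have hv0 : v ≠ 0 := fun h => hu (by rw [h, dotProduct_zero] at hc; exact hc)
  set S' := S - c⁻¹ • Matrix.vecMulVec v v with hS'
  have hS's : S'.IsSymm := by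
    simp [hS', Matrix.IsSymm, hS.eq, Matrix.transpose_vecMulVec]
  have hsymm : ∀ a b : Fin n → F, a ⬝ᵥ S *ᵥ b = b ⬝ᵥ S *ᵥ a := fun a b => by
    rw [Matrix.dotProduct_mulVec, ← Matrix.mulVec_transpose, hS.eq, dotProduct_comm]
  by_cases hz : ∀ z : Fin n → F, z ⬝ᵥ S' *ᵥ z = 0
  · have hrk : S = c⁻¹ • Matrix.vecMulVec v v := by
      have := eq_zero_of_forall_quad h2 hS's hz
      rwa [hS', sub_eq_zero] at this
    let φ : (Fin n → F) → Matrix (Fin n) (Fin n) F := fun w => c⁻¹ • Matrix.vecMulVec w w
    have himg : (Finset.univ.filter fun w : Fin n → F => w ≠ 0).image φ ⊆ T := by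
      intro M hM
      simp only [Finset.mem_image, Finset.mem_filter, Finset.mem_univ, true_and] at hM
      obtain ⟨w, hw, rfl⟩ := hM
      obtain ⟨A, hA, hAw⟩ := exists_map v w hv0 hw
      have := hT S hmem A hA
      rw [hrk, Matrix.mul_smul, Matrix.smul_mul, Matrix.mul_vecMulVec, Matrix.vecMulVec_mul, hAw,
        Matrix.vecMul_transpose, hAw] at this
      exact this
    have hfib : ∀ M ∈ (Finset.univ.filter fun w : Fin n → F => w ≠ 0).image φ,
        ((Finset.univ.filter fun w : Fin n → F => w ≠ 0).filter fun w => φ w = M).card ≤ 2 := by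
      intro M hM
      simp only [Finset.mem_image, Finset.mem_filter, Finset.mem_univ, true_and] at hM
      obtain ⟨w, hw, rfl⟩ := hM
      refine le_trans (Finset.card_le_card (t := {w, -w}) fun w' hw' => ?_) Finset.card_le_two
      simp only [Finset.mem_filter, Finset.mem_univ, true_and] at hw'
      obtain ⟨-, hw'⟩ := hw'
      have hent : ∀ i j, w' i * w' j = w i * w j := fun i j => by
        have := congrFun (congrFun hw' i) j
        simpa [φ, Matrix.vecMulVec_apply, hu] using this
      obtain ⟨i, hi⟩ := Function.ne_iff.1 hw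
      have h0 : w' i * w' i = w i * w i := hent i i
      rcases mul_self_eq_mul_self_iff.1 h0 with h | h
      · have : w' = w := funext fun j => by
          have := hent i j
          rw [h] at this
          exact mul_left_cancel₀ hi this
        simp [this]
      · have : w' = -w := funext fun j => by
          have := hent i j
          rw [h] at this
          have e : w i * (w' j + w j) = 0 := by linear_combination -this
          have := (mul_eq_zero.1 e).resolve_left hi
          simpa using eq_neg_of_add_eq_zero_left this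
        simp [this]
    have h1 := Finset.card_le_mul_card_image _ 2 hfib
    have h3 : (Finset.univ.filter fun w : Fin n → F => w ≠ 0).card = Fintype.card F ^ n - 1 := by
      simp [Finset.filter_ne', Finset.card_erase_of_mem, Fintype.card_fun]
    have h4 := Finset.card_le_card himg
    omega
  · push Not at hz
    obtain ⟨z, hz⟩ := hz
    set d := z ⬝ᵥ S' *ᵥ z with hd
    have hall : ∀ t : F, ∃ y : Fin n → F, y ⬝ᵥ S *ᵥ y = t := by
      intro t
      obtain ⟨a, b, hab⟩ := FiniteField.exists_root_sum_quadratic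
        (f := Polynomial.C c * Polynomial.X ^ 2) (g := Polynomial.C d * Polynomial.X ^ 2 - Polynomial.C t)
        (Polynomial.degree_C_mul_X_pow 2 hu)
        (by
          rw [Polynomial.degree_sub_C] <;> simp [Polynomial.degree_C_mul_X_pow 2 hz])
        (Nat.odd_iff.1 hodd)
      set z' := z - (c⁻¹ * (v ⬝ᵥ z)) • u with hz'
      refine ⟨a • u + b • z', ?_⟩
      have huz : u ⬝ᵥ S *ᵥ z = v ⬝ᵥ z := by rw [hsymm, ← hv, dotProduct_comm]
      have hzu : z ⬝ᵥ S *ᵥ u = v ⬝ᵥ z := by rw [← hv, dotProduct_comm]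
      have hdd : d = z ⬝ᵥ S *ᵥ z - c⁻¹ * ((v ⬝ᵥ z) * (v ⬝ᵥ z)) := by
        rw [hd, hS', Matrix.sub_mulVec, dotProduct_sub, Matrix.smul_mulVec, Matrix.vecMulVec_mulVec,
          dotProduct_smul, op_smul_eq_smul, dotProduct_smul, dotProduct_comm z v, smul_eq_mul, smul_eq_mul]
      have huu : u ⬝ᵥ S *ᵥ u = c := rfl
      simp only [hz', Matrix.mulVec_add, Matrix.mulVec_sub, Matrix.mulVec_smul, dotProduct_add, add_dotProduct,
        dotProduct_sub, sub_dotProduct, dotProduct_smul, smul_dotProduct, smul_eq_mul, huu, huz, hzu]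
      simp only [Polynomial.eval_mul, Polynomial.eval_C, Polynomial.eval_pow, Polynomial.eval_X,
        Polynomial.eval_sub] at hab
      rw [hdd] at hab
      linear_combination (norm := skip) hab
      field_simp
      ring
    obtain ⟨i0⟩ : Nonempty (Fin n) := by
      by_contra hn
      exact hv0 (funext fun i => (hn ⟨i⟩).elim)
    have himg : (Finset.univ.filter fun w : Fin n → F => w i0 ≠ 0) ⊆
        T.image fun M => M *ᵥ Pi.single i0 1 := by
      intro w hw
      simp only [Finset.mem_filter, Finset.mem_univ, true_and] at hw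
      obtain ⟨y, hy⟩ := hall (w i0)
      obtain ⟨A, hA, h1, h3⟩ := exists_pair_map hw (Pi.single i0 1) w y (S *ᵥ y) (by simp)
        (by rw [dotProduct_comm]; exact hy)
      refine Finset.mem_image.2 ⟨Aᵀ * S * A, ?_, ?_⟩
      · have := hT S hmem Aᵀ ((Matrix.isUnit_transpose A).2 hA)
        rwa [Matrix.transpose_transpose] at this
      · rw [← Matrix.mulVec_mulVec, ← Matrix.mulVec_mulVec, h1, h3]
    have h5 := (Finset.card_le_card himg).trans Finset.card_image_le
    have h6 : (Finset.univ.filter fun w : Fin n → F => w i0 ≠ 0).card =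
        (Fintype.card F - 1) * Fintype.card F ^ (n - 1) := by
      rw [← Fintype.card_subtype]
      let e : {w : Fin n → F // w i0 ≠ 0} ≃ {x : F // x ≠ 0} × ({j // j ≠ i0} → F) :=
        ((Equiv.funSplitAt i0 F).subtypeEquiv (q := fun x => x.1 ≠ 0) (fun w => Iff.rfl)).trans
          (Equiv.prodSubtypeFstEquivSubtypeProd (p := fun a : F => a ≠ 0))
      rw [Fintype.card_congr e]
      simp [Fintype.card_subtype_compl]
    have hpow : Fintype.card F ^ n = Fintype.card F * Fintype.card F ^ (n - 1) := by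
      rw [← pow_succ', Nat.sub_add_cancel (Fin.pos i0)]
    have hq : 2 ≤ Fintype.card F := Fintype.one_lt_card
    have h7 : Fintype.card F * Fintype.card F ^ (n - 1) ≤ 2 * ((Fintype.card F - 1) * Fintype.card F ^ (n - 1)) := by
      rw [← mul_assoc]
      exact Nat.mul_le_mul_right _ (by omega)
    omega

end Cfsg.Agent.Weil
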