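import Cfsg.Agent.Weil.Elems
import Cfsg.Agent.Weil.Orbit
import Cfsg.Agent.Char.Basic

/-!
Lower bound `(q ^ n - 1) / 2` for faithful-modulo-centre representations of the symplectic group.
-/

set_option autoImplicit false

namespace Cfsg.Agent.Weil

open Matrix Cfsg.Agent.Classical

variable {F : Type*} [Field F] [Fintype F] {n : ℕ}

theorem ker_le_center (hn : 2 ≤ n) (hq : 3 ≤ Fintype.card F)
    (K : Subgroup (Matrix.symplecticGroup (Fin n) F)) [K.Normal] (hK : K ≠ ⊤) :
    K ≤ Subgroup.center (Matrix.symplecticGroup (Fin n) F) := by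
  have hs := isSimpleGroup_psp (F := F) (m := n) hn fun _ => hq
  have hnorm : (K.map (QuotientGroup.mk' (Subgroup.center (Matrix.symplecticGroup (Fin n) F)))).Normal :=
    Subgroup.Normal.map inferInstance _ (QuotientGroup.mk'_surjective _)
  rcases hnorm.eq_bot_or_eq_top with h | h
  · rwa [Subgroup.map_eq_bot_iff, QuotientGroup.ker_mk'] at h
  · exfalso
    apply hK
    rw [eq_top_iff, ← commutator_symplectic (F := F) (m := n) (by omega), commutator_def,
      Subgroup.commutator_le]
    intro a _ b _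
    have key : ∀ x : Matrix.symplecticGroup (Fin n) F, ∃ k ∈ K, ∃ z ∈ Subgroup.center _, x = k * z := by
      intro x
      obtain ⟨k, hk, hkx⟩ := (h ▸ Subgroup.mem_top (QuotientGroup.mk' _ x) :
        QuotientGroup.mk' _ x ∈ K.map _)
      exact ⟨k, hk, k⁻¹ * x, QuotientGroup.eq.1 hkx, by group⟩
    obtain ⟨k, hk, z, hz, rfl⟩ := key a
    obtain ⟨l, hl, w, hw, rfl⟩ := key b
    have hz' : ∀ g, g * z = z * g := Subgroup.mem_center_iff.1 hz
    have hw' : ∀ g, g * w = w * g := Subgroup.mem_center_iff.1 hw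
    rw [commutatorElement_def, _root_.mul_inv_rev, _root_.mul_inv_rev]
    have e : k * z * (l * w) * (z⁻¹ * k⁻¹) * (w⁻¹ * l⁻¹) = k * l * k⁻¹ * l⁻¹ := by
      calc k * z * (l * w) * (z⁻¹ * k⁻¹) * (w⁻¹ * l⁻¹)
          = k * ((l * w) * z) * (z⁻¹ * k⁻¹) * (w⁻¹ * l⁻¹) := by rw [hz' (l * w)]; group
        _ = k * l * (w * k⁻¹) * w⁻¹ * l⁻¹ := by group
        _ = k * l * (k⁻¹ * w) * w⁻¹ * l⁻¹ := by rw [hw' k⁻¹]
        _ = k * l * k⁻¹ * l⁻¹ := by group
    rw [e]
    exact mul_mem (mul_mem (mul_mem hk hl) (inv_mem hk)) (inv_mem hl)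

theorem lowU_not_central {X : Matrix (Fin n) (Fin n) F} (hX : X.IsSymm) (hX0 : X ≠ 0) :
    lowU X hX ∉ Subgroup.center (Matrix.symplecticGroup (Fin n) F) := by
  intro h
  have := congrArg Subtype.val (Subgroup.mem_center_iff.1 h ⟨_, SymplecticGroup.J_mem (Fin n) F⟩)
  simp [coe_lowU, Matrix.J, Matrix.fromBlocks_multiply, Matrix.fromBlocks_inj] at this
  exact hX0 (by simp_all)

theorem lower_bound [DecidableEq F] (hn : 2 ≤ n) (hodd : Odd (Fintype.card F)) {V : Type*} [AddCommGroup V]
    [Module ℂ V] [FiniteDimensional ℂ V]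
    (ρ : Representation ℂ (Matrix.symplecticGroup (Fin n) F) V) (hρ : ∃ g, ρ g ≠ 1) :
    (Fintype.card F ^ n - 1) / 2 ≤ Module.finrank ℂ V := by
  classical
  have hq : 3 ≤ Fintype.card F := by
    have := Fintype.one_lt_card (α := F)
    obtain ⟨k, hk⟩ := hodd
    omega
  have h2 : (2 : F) ≠ 0 := by
    refine Ring.two_ne_zero fun h => ?_
    have := FiniteField.even_card_iff_char_two.1 h
    obtain ⟨k, hk⟩ := hodd
    omega
  obtain ⟨ψ, hψ⟩ : ∃ ψ : AddChar F ℂ, ψ 1 ≠ 1 := AddChar.exists_apply_ne_zero.2 one_ne_zero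
  have hsym : ∀ M : (Matrix (Fin n) (Fin n) F), (M + Mᵀ).IsSymm := fun M => by simp [Matrix.IsSymm, add_comm]
  let u : (Matrix (Fin n) (Fin n) F) → Matrix.symplecticGroup (Fin n) F := fun M => lowU (M + Mᵀ) (hsym M)
  have hu : ∀ M N, u M * u N = u (M + N) := fun M N => by
    simp only [u, lowU_mul]
    congr 1
    rw [Matrix.transpose_add]
    abel
  let pair : (Matrix (Fin n) (Fin n) F) → (Matrix (Fin n) (Fin n) F) → F := fun S M => (Sᵀ * M).trace
  let e : (Matrix (Fin n) (Fin n) F) → (Matrix (Fin n) (Fin n) F) → ℂ := fun S M => ψ (pair S M)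
  have he_add : ∀ S M N, e S (M + N) = e S M * e S N := fun S M N => by
    simp [e, pair, Matrix.mul_add, AddChar.map_add_eq_mul]
  have he_sub : ∀ S S' M, e (S - S') M = e S M * e S' (-M) := fun S S' M => by
    simp only [e, pair, ← AddChar.map_add_eq_mul, Matrix.transpose_sub, Matrix.sub_mul, Matrix.trace_sub,
      Matrix.mul_neg, Matrix.trace_neg, ← sub_eq_add_neg]
  have hsingle : ∀ (S : (Matrix (Fin n) (Fin n) F)) i j (t : F), pair S (Matrix.single i j t) = S i j * t := fun S i j t => by
    simp [pair, Matrix.trace_mul_single]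
  have horth : ∀ S : (Matrix (Fin n) (Fin n) F), S ≠ 0 → ∑ M, e S M = 0 := by
    intro S hS
    obtain ⟨i, j, hij⟩ : ∃ i j, S i j ≠ 0 := by
      by_contra hc; push Not at hc; exact hS (Matrix.ext hc)
    let χ : AddChar (Matrix (Fin n) (Fin n) F) ℂ := ⟨fun M => e S M, by simp [e, pair], fun M N => he_add S M N⟩
    have hχ : χ ≠ 1 := by
      intro hc
      apply hψ
      have := DFunLike.congr_fun hc (Matrix.single i j (S i j)⁻¹)
      simpa [χ, e, hsingle, mul_inv_cancel₀ hij] using this
    exact AddChar.sum_eq_zero_of_ne_one hχ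
  have horth' : ∀ M : (Matrix (Fin n) (Fin n) F), M ≠ 0 → ∑ S, e S M = 0 := by
    intro M hM
    have : ∀ S, e S M = e M S := fun S => by
      simp only [e, pair]
      rw [← Matrix.trace_transpose (Mᵀ * S), Matrix.transpose_mul, Matrix.transpose_transpose]
    simp only [this]
    exact horth M hM
  let N : ℂ := Fintype.card (Matrix (Fin n) (Fin n) F)
  have hN : N ≠ 0 := Nat.cast_ne_zero.2 Fintype.card_ne_zero
  let P : (Matrix (Fin n) (Fin n) F) → Module.End ℂ V := fun S => ∑ M, e S (-M) • ρ (u M)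
  have hsum : ∑ S, P S = N • (1 : Module.End ℂ V) := by
    simp only [P]
    rw [Finset.sum_comm, Finset.sum_eq_single 0]
    · rw [← Finset.sum_smul]
      have : u 0 = 1 := by apply Subtype.ext; simp [u, coe_lowU, Matrix.fromBlocks_one]
      simp [this, N, e, pair]
    · intro M _ hM
      rw [← Finset.sum_smul, horth' (-M) (by simpa using hM), zero_smul]
    · simp
  have hmulP : ∀ S M, ρ (u M) * P S = e S M • P S := by
    intro S M
    simp only [P, Finset.mul_sum, Finset.smul_sum]
    refine Fintype.sum_equiv (Equiv.addLeft M) _ _ fun x => ?_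
    rw [Equiv.coe_addLeft, mul_smul_comm, ← map_mul, hu, smul_smul, ← he_add]
    congr 2
    ext a b
    simp
  have hortho : ∀ S S', S ≠ S' → P S' * P S = 0 := by
    intro S S' hne
    show (∑ M, e S' (-M) • ρ (u M)) * P S = 0
    simp only [Finset.sum_mul, smul_mul_assoc, hmulP, smul_smul, ← Finset.sum_smul]
    have : ∀ M, e S' (-M) * e S M = e (S - S') M := fun M => by rw [he_sub, mul_comm]
    simp only [this]
    rw [horth _ (sub_ne_zero.2 hne), zero_smul]
  have hsq : ∀ S, P S * P S = N • P S := by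
    intro S
    show (∑ M, e S (-M) • ρ (u M)) * P S = _
    simp only [Finset.sum_mul, smul_mul_assoc, hmulP, smul_smul, ← Finset.sum_smul]
    have : ∀ M, e S (-M) * e S M = 1 := fun M => by rw [← he_add]; simp [e, pair]
    simp [this, N]
  let T : Finset (Matrix (Fin n) (Fin n) F) := Finset.univ.filter fun S => P S ≠ 0
  have hTsymm : ∀ S ∈ T, S.IsSymm := by
    intro S hS
    simp only [T, Finset.mem_filter, Finset.mem_univ, true_and] at hS
    refine Matrix.IsSymm.ext fun i j => ?_
    by_contra hne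
    obtain ⟨a, ha⟩ : ∃ a : F, ψ a ≠ 1 := ⟨1, hψ⟩
    let t := a / (S i j - S j i)
    let A : (Matrix (Fin n) (Fin n) F) := Matrix.single i j t - Matrix.single j i t
    have hA : u A = 1 := by
      apply Subtype.ext
      have : A + Aᵀ = 0 := by simp [A]
      simp [u, coe_lowU, this, Matrix.fromBlocks_one]
    have hval : e S A = ψ a := by
      simp only [e, A]
      congr 1
      have : pair S (Matrix.single i j t - Matrix.single j i t) = (S i j - S j i) * t := by
        simp only [pair, Matrix.mul_sub, Matrix.trace_sub]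
        have h1 := hsingle S i j t
        have h3 := hsingle S j i t
        simp only [pair] at h1 h3
        rw [h1, h3, sub_mul]
      rw [this]
      exact mul_div_cancel₀ _ (sub_ne_zero.2 (Ne.symm hne))
    have hh := hmulP S A
    rw [hA, map_one, one_mul, hval] at hh
    have h0 : (ψ a - 1) • P S = 0 := by rw [sub_smul, one_smul, ← hh, sub_self]
    exact hS ((smul_eq_zero.1 h0).resolve_left (sub_ne_zero.2 ha))
  have hTconj : ∀ S ∈ T, ∀ A : (Matrix (Fin n) (Fin n) F), IsUnit A → A * S * Aᵀ ∈ T := by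
    intro S hS A hA
    simp only [T, Finset.mem_filter, Finset.mem_univ, true_and] at hS ⊢
    obtain ⟨U, rfl⟩ := hA
    let B : (Matrix (Fin n) (Fin n) F) := ↑U⁻¹
    let g := levi (U : (Matrix (Fin n) (Fin n) F)) B U.mul_inv
    have hconj : ∀ M, ρ g * ρ (u M) = ρ (u (Bᵀ * M * B)) * ρ g := fun M => by
      rw [← map_mul, ← map_mul, levi_mul_lowU]
      congr 2
      simp only [u]
      congr 1
      simp [Matrix.transpose_mul, Matrix.mul_add, Matrix.add_mul, Matrix.mul_assoc]
    have hB1 : B * U = 1 := U.inv_mul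
    have hBB : ∀ M, Bᵀ * ((U : (Matrix (Fin n) (Fin n) F))ᵀ * M * U) * B = M := fun M => by
      have h1 : (U : (Matrix (Fin n) (Fin n) F)) * B = 1 := U.mul_inv
      calc Bᵀ * ((U : (Matrix (Fin n) (Fin n) F))ᵀ * M * U) * B = ((U : (Matrix (Fin n) (Fin n) F)) * B)ᵀ * M * ((U : (Matrix (Fin n) (Fin n) F)) * B) := by
            simp [Matrix.transpose_mul, Matrix.mul_assoc]
        _ = M := by simp [h1]
    have hkey : ρ g * P S = P ((U : (Matrix (Fin n) (Fin n) F)) * S * (U : (Matrix (Fin n) (Fin n) F))ᵀ) * ρ g := by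
      simp only [P, Finset.mul_sum, Finset.sum_mul, mul_smul_comm, smul_mul_assoc, hconj]
      refine (Fintype.sum_equiv ⟨fun M => (U : (Matrix (Fin n) (Fin n) F))ᵀ * M * U, fun M => Bᵀ * M * B, hBB, fun M => ?_⟩
        _ _ fun M => ?_).symm
      · calc (U : (Matrix (Fin n) (Fin n) F))ᵀ * (Bᵀ * M * B) * U = (B * (U : (Matrix (Fin n) (Fin n) F)))ᵀ * M * (B * (U : (Matrix (Fin n) (Fin n) F))) := by
              simp [Matrix.transpose_mul, Matrix.mul_assoc]
          _ = M := by simp [hB1]
      · simp only [Equiv.coe_fn_mk, hBB]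
        congr 1
        simp only [e, pair]
        congr 1
        rw [Matrix.transpose_mul, Matrix.transpose_mul, Matrix.transpose_transpose, Matrix.mul_neg,
          Matrix.mul_neg, Matrix.trace_neg, Matrix.trace_neg, Matrix.mul_assoc, Matrix.trace_mul_comm]
        simp [Matrix.mul_assoc]
    intro h0
    rw [h0, zero_mul] at hkey
    apply hS
    have hinv : ρ g⁻¹ * ρ g = 1 := by rw [← map_mul, inv_mul_cancel, map_one]
    calc P S = ρ g⁻¹ * (ρ g * P S) := by rw [← mul_assoc, hinv, one_mul]
      _ = 0 := by rw [hkey, mul_zero]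
  obtain ⟨S, hST, hS0⟩ : ∃ S ∈ T, S ≠ 0 := by
    by_contra hc
    push Not at hc
    have hP0 : P 0 = N • (1 : Module.End ℂ V) := by
      rw [← hsum, Finset.sum_eq_single 0]
      · intro S _ hS
        by_contra h
        exact hS (hc S (by simp [T, h]))
      · simp
    have hK : ∀ M, ρ (u M) = 1 := fun M => by
      have h := hmulP 0 M
      rw [hP0, mul_smul_comm, mul_one] at h
      have e0 : e 0 M = 1 := by simp [e, pair]
      rw [e0, one_smul] at h
      exact smul_right_injective _ hN h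
    obtain ⟨g, hg⟩ := hρ
    have hne : (MonoidHom.ker ρ) ≠ ⊤ := fun h => hg (MonoidHom.mem_ker.1 (h ▸ Subgroup.mem_top g))
    have i0 : Fin n := ⟨0, by omega⟩
    have hX : (Matrix.single i0 i0 (1 : F) + (Matrix.single i0 i0 (1 : F))ᵀ) ≠ 0 := fun h => h2 (by
      have := congrFun (congrFun h i0) i0
      simpa [one_add_one_eq_two] using this)
    exact lowU_not_central (hsym _) hX (ker_le_center hn hq _ hne (MonoidHom.mem_ker.2 (hK _)))
  have horb := orbit_card hodd T hTconj hST (hTsymm S hST) hS0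
  have hcard : T.card ≤ Module.finrank ℂ V := by
    have hv : ∀ S : T, ∃ v : V, P S.1 v ≠ 0 := by
      intro S
      have h : P S.1 ≠ 0 := (Finset.mem_filter.1 S.2).2
      by_contra hc
      push Not at hc
      exact h (LinearMap.ext hc)
    choose x hx using hv
    have hli : LinearIndependent ℂ fun S : T => P S.1 (x S) := by
      rw [Fintype.linearIndependent_iff]
      intro c hc S0
      have h := congrArg (P S0.1) hc
      rw [map_sum, map_zero, Finset.sum_eq_single S0] at h
      · have e1 : P S0.1 (P S0.1 (x S0)) = N • P S0.1 (x S0) := DFunLike.congr_fun (hsq S0.1) _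
        rw [map_smul, e1, smul_smul] at h
        exact (mul_eq_zero.1 ((smul_eq_zero.1 h).resolve_right (hx S0))).resolve_right hN
      · intro b _ hb
        have e1 : P S0.1 (P b.1 (x b)) = 0 :=
          DFunLike.congr_fun (hortho b.1 S0.1 fun h => hb (Subtype.ext h)) _
        rw [map_smul, e1, smul_zero]
      · simp
    simpa using hli.fintype_card_le_finrank
  omega

end Cfsg.Agent.Weil
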