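import Mathlib
import Cfsg.Agent.Classical.SympGroup

/-!
Block-diagonal and lower unitriangular elements of the symplectic group.
-/

set_option autoImplicit false

namespace Cfsg.Agent.Weil

open Matrix

variable {F : Type*} [Field F] {n : ℕ}

/-- `(a, b) ↦ (a, b + X a)` for symmetric `X`. -/
def lowU (X : Matrix (Fin n) (Fin n) F) (hX : X.IsSymm) : Matrix.symplecticGroup (Fin n) F :=
  ⟨Matrix.fromBlocks 1 0 X 1, by
    rw [SymplecticGroup.mem_iff, Matrix.J, Matrix.fromBlocks_transpose, Matrix.fromBlocks_multiply,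
      Matrix.fromBlocks_multiply]
    simp [hX.eq]⟩

theorem coe_lowU (X : Matrix (Fin n) (Fin n) F) (hX : X.IsSymm) :
    (lowU X hX : Matrix (Fin n ⊕ Fin n) (Fin n ⊕ Fin n) F) = Matrix.fromBlocks 1 0 X 1 := rfl

theorem lowU_mul (X Y : Matrix (Fin n) (Fin n) F) (hX : X.IsSymm) (hY : Y.IsSymm) :
    lowU X hX * lowU Y hY = lowU (X + Y) (hX.add hY) := by
  apply Subtype.ext
  simp [coe_lowU, Matrix.fromBlocks_multiply]

theorem lowU_inl (X : Matrix (Fin n) (Fin n) F) (hX : X.IsSymm) (v : Fin n ⊕ Fin n → F) :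
    ((lowU X hX : Matrix (Fin n ⊕ Fin n) (Fin n ⊕ Fin n) F) *ᵥ v) ∘ Sum.inl = v ∘ Sum.inl := by
  simp [coe_lowU, Matrix.fromBlocks_mulVec]

theorem lowU_inr (X : Matrix (Fin n) (Fin n) F) (hX : X.IsSymm) (v : Fin n ⊕ Fin n → F) :
    ((lowU X hX : Matrix (Fin n ⊕ Fin n) (Fin n ⊕ Fin n) F) *ᵥ v) ∘ Sum.inr =
      v ∘ Sum.inr + X *ᵥ (v ∘ Sum.inl) := by
  simp [coe_lowU, Matrix.fromBlocks_mulVec, add_comm]

/-- `(a, b) ↦ (A a, A⁻ᵀ b)`, with the inverse of `A` given. -/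
def levi (A B : Matrix (Fin n) (Fin n) F) (h : A * B = 1) : Matrix.symplecticGroup (Fin n) F :=
  ⟨Matrix.fromBlocks A 0 0 Bᵀ, by
    have h' : B * A = 1 := mul_eq_one_comm.1 h
    rw [SymplecticGroup.mem_iff, Matrix.J, Matrix.fromBlocks_transpose, Matrix.fromBlocks_multiply,
      Matrix.fromBlocks_multiply]
    simp [h, ← Matrix.transpose_mul]⟩

theorem coe_levi (A B : Matrix (Fin n) (Fin n) F) (h : A * B = 1) :
    (levi A B h : Matrix (Fin n ⊕ Fin n) (Fin n ⊕ Fin n) F) = Matrix.fromBlocks A 0 0 Bᵀ := rfl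

theorem levi_inl (A B : Matrix (Fin n) (Fin n) F) (h : A * B = 1) (v : Fin n ⊕ Fin n → F) :
    ((levi A B h : Matrix (Fin n ⊕ Fin n) (Fin n ⊕ Fin n) F) *ᵥ v) ∘ Sum.inl = A *ᵥ (v ∘ Sum.inl) := by
  simp [coe_levi, Matrix.fromBlocks_mulVec]

theorem levi_inr (A B : Matrix (Fin n) (Fin n) F) (h : A * B = 1) (v : Fin n ⊕ Fin n → F) :
    ((levi A B h : Matrix (Fin n ⊕ Fin n) (Fin n ⊕ Fin n) F) *ᵥ v) ∘ Sum.inr = Bᵀ *ᵥ (v ∘ Sum.inr) := by
  simp [coe_levi, Matrix.fromBlocks_mulVec]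

theorem levi_mul_lowU (A B : Matrix (Fin n) (Fin n) F) (h : A * B = 1) (X : Matrix (Fin n) (Fin n) F)
    (hX : X.IsSymm) :
    levi A B h * lowU X hX =
      lowU (Bᵀ * X * B) (by simp [Matrix.IsSymm, Matrix.transpose_mul, hX.eq, mul_assoc]) * levi A B h := by
  apply Subtype.ext
  have h' : B * A = 1 := mul_eq_one_comm.1 h
  simp [coe_levi, coe_lowU, Matrix.fromBlocks_multiply, mul_assoc, h']

end Cfsg.Agent.Weil
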