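import Cfsg.Agent.Weil.Schrodinger
import Cfsg.Agent.Weil.Elems

/-!
The odd Weil representation of the symplectic group, obtained from Schrödinger intertwiners by a canonical
rescaling with the determinants on the odd and even functions.
-/

set_option autoImplicit false

namespace Cfsg.Agent.Weil

open Matrix Cfsg.Agent.Classical

variable {F : Type*} [Field F] [Fintype F] [DecidableEq F] {n : ℕ}

local notation "Pt" => (Fin n → F)
local notation "Op" => Matrix (Fin n → F) (Fin n → F) ℂ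

variable (F n) in
/-- Functions with `f (-x) = s * f x`. -/
def sect (s : ℂ) : Submodule ℂ (Pt → ℂ) where
  carrier := {f | ∀ x, f (-x) = s * f x}
  add_mem' {f g} hf hg x := by rw [Pi.add_apply, Pi.add_apply, hf x, hg x, mul_add]
  zero_mem' x := by simp
  smul_mem' c f hf x := by rw [Pi.smul_apply, Pi.smul_apply, hf x, smul_eq_mul, smul_eq_mul]; ring

theorem mem_sect {s : ℂ} {f : Pt → ℂ} : f ∈ sect F n s ↔ ∀ x, f (-x) = s * f x := Iff.rfl

theorem mulVec_mem_sect {T : Op} (hT : Par T) (s : ℂ) {f : Pt → ℂ} (hf : f ∈ sect F n s) :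
    T *ᵥ f ∈ sect F n s := by
  intro x
  simp only [Matrix.mulVec, dotProduct, Finset.mul_sum]
  refine Fintype.sum_equiv (Equiv.neg _) _ _ fun y => ?_
  simp only [Equiv.neg_apply]
  rw [← hT x (-y), neg_neg, mul_left_comm, ← hf (-y), neg_neg]

/-- Restriction of a parity invariant operator. -/
noncomputable def res (s : ℂ) (T : {T : Op // Par T}) : Module.End ℂ (sect F n s) :=
  (Matrix.toLin' T.1).restrict fun f hf => by
    rw [Matrix.toLin'_apply]
    exact mulVec_mem_sect T.2 s hf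

theorem res_apply (s : ℂ) (T : {T : Op // Par T}) (f : sect F n s) :
    (res s T f : Pt → ℂ) = T.1 *ᵥ (f : Pt → ℂ) := by
  simp [res, Matrix.toLin'_apply]

theorem res_mul (s : ℂ) (T T' : {T : Op // Par T}) :
    res s ⟨T.1 * T'.1, par_mul T.2 T'.2⟩ = res s T * res s T' := by
  refine LinearMap.ext fun f => Subtype.ext ?_
  rw [Module.End.mul_apply, res_apply, res_apply, res_apply, Matrix.mulVec_mulVec]

theorem res_smul (s c : ℂ) (T : {T : Op // Par T}) :
    res s ⟨c • T.1, par_smul T.2 c⟩ = c • res s T := by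
  refine LinearMap.ext fun f => Subtype.ext ?_
  rw [LinearMap.smul_apply, Submodule.coe_smul, res_apply, res_apply, Matrix.smul_mulVec]

theorem res_isUnit (s : ℂ) (T : {T : Op // Par T}) (hu : IsUnit T.1) : IsUnit (res s T) := by
  rw [LinearMap.isUnit_iff_ker_eq_bot, LinearMap.ker_eq_bot]
  intro f g hfg
  have h := congrArg Subtype.val hfg
  rw [res_apply, res_apply] at h
  exact Subtype.ext (Matrix.mulVec_injective_iff_isUnit.2 hu h)

theorem finrank_sect (h2 : (2 : F) ≠ 0) (s : ℂ) (hs : s * s = 1) :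
    (2 : ℂ) * (Module.finrank ℂ (sect F n s) : ℂ) = (Fintype.card F ^ n : ℕ) + s := by
  let E : Op := (2 : ℂ)⁻¹ • (1 + s • Matrix.of fun i j => if j = -i then 1 else 0)
  have hE : ∀ (f : Pt → ℂ) x, (E *ᵥ f) x = 2⁻¹ * (f x + s * f (-x)) := by
    intro f x
    have hP : ((Matrix.of fun i j => if j = -i then (1 : ℂ) else 0) *ᵥ f) x = f (-x) := by
      simp [Matrix.mulVec, dotProduct]
    simp only [E, Matrix.smul_mulVec, Matrix.add_mulVec, Matrix.one_mulVec, Pi.smul_apply, Pi.add_apply, hP,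
      smul_eq_mul]
  have hproj : LinearMap.IsProj (sect F n s) (Matrix.toLin' E) := by
    refine ⟨fun f x => ?_, fun f hf => funext fun x => ?_⟩
    · rw [Matrix.toLin'_apply, hE, hE, neg_neg]
      linear_combination (-(2 : ℂ)⁻¹ * f (-x)) * hs
    · rw [Matrix.toLin'_apply, hE, hf x]
      linear_combination ((2 : ℂ)⁻¹ * f x) * hs
  have h := hproj.trace
  rw [Matrix.trace_toLin'_eq] at h
  rw [← h]
  have hone : (Matrix.of fun i j : Pt => if j = -i then (1 : ℂ) else 0).trace = 1 := by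
    rw [Matrix.trace, Finset.sum_eq_single 0]
    · simp
    · intro b _ hb
      simp only [Matrix.diag, Matrix.of_apply]
      refine if_neg fun e => hb ?_
      funext i
      have := congrFun e i
      have e2 : (2 : F) * b i = 0 := by simp at this; linear_combination this
      simpa [h2] using e2
    · simp
  rw [show E = (2 : ℂ)⁻¹ • (1 + s • Matrix.of fun i j => if j = -i then 1 else 0) from rfl, Matrix.trace_smul,
    Matrix.trace_add, Matrix.trace_smul, hone, Matrix.trace_one, smul_eq_mul, smul_eq_mul, Fintype.card_fun,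
    Fintype.card_fin]
  ring

theorem finrank_odd (h2 : (2 : F) ≠ 0) :
    Module.finrank ℂ (sect F n (-1)) = (Fintype.card F ^ n - 1) / 2 ∧
      Module.finrank ℂ (sect F n 1) = Module.finrank ℂ (sect F n (-1)) + 1 := by
  have hm := finrank_sect (F := F) (n := n) h2 (-1) (by norm_num)
  have hp := finrank_sect (F := F) (n := n) h2 1 (by norm_num)
  have e1 : 2 * Module.finrank ℂ (sect F n (-1)) + 1 = Fintype.card F ^ n := by
    have : ((2 * Module.finrank ℂ (sect F n (-1)) + 1 : ℕ) : ℂ) = ((Fintype.card F ^ n : ℕ) : ℂ) := by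
      push_cast at hm ⊢; linear_combination hm
    exact_mod_cast this
  have e2 : 2 * Module.finrank ℂ (sect F n 1) = Fintype.card F ^ n + 1 := by
    have : ((2 * Module.finrank ℂ (sect F n 1) : ℕ) : ℂ) = ((Fintype.card F ^ n + 1 : ℕ) : ℂ) := by
      push_cast at hp ⊢; linear_combination hp
    exact_mod_cast this
  omega

/-- The ratio of determinants which makes a rescaled intertwiner canonical. -/
noncomputable def ratio (T : {T : Op // Par T}) : ℂ :=
  LinearMap.det (res (-1) T) / LinearMap.det (res 1 T)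

theorem ratio_ne_zero (T : {T : Op // Par T}) (hu : IsUnit T.1) : ratio T ≠ 0 :=
  div_ne_zero ((res_isUnit (-1) T hu).map LinearMap.det).ne_zero ((res_isUnit 1 T hu).map LinearMap.det).ne_zero

theorem ratio_mul (T T' : {T : Op // Par T}) :
    ratio ⟨T.1 * T'.1, par_mul T.2 T'.2⟩ = ratio T * ratio T' := by
  simp only [ratio, res_mul, map_mul]
  rw [div_mul_div_comm]

theorem ratio_smul (h2 : (2 : F) ≠ 0) (c : ℂ) (hc : c ≠ 0) (T : {T : Op // Par T}) :
    ratio ⟨c • T.1, par_smul T.2 c⟩ * c = ratio T := by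
  simp only [ratio, res_smul, LinearMap.det_smul, (finrank_odd (F := F) (n := n) h2).2, pow_succ]
  field_simp

/-- The Schrödinger intertwiner of a symplectic map. -/
noncomputable def weilT {ψ : AddChar F ℂ} (hψ : ψ ≠ 1) (h2 : (2 : F) ≠ 0)
    (g : Matrix.symplecticGroup (Fin n) F) : {T : Op // Par T} :=
  ⟨(exists_int ψ h2 hψ g).choose,
    int_par ψ h2 hψ (exists_int ψ h2 hψ g).choose_spec.1 (exists_int ψ h2 hψ g).choose_spec.2⟩

variable {ψ : AddChar F ℂ} (hψ : ψ ≠ 1) (h2 : (2 : F) ≠ 0)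

theorem weilT_spec (g : Matrix.symplecticGroup (Fin n) F) :
    IsInt ψ g (weilT hψ h2 g).1 ∧ IsUnit (weilT hψ h2 g).1 :=
  (exists_int ψ h2 hψ g).choose_spec

/-- The operator of the Weil representation on odd functions. -/
noncomputable def weilOp (g : Matrix.symplecticGroup (Fin n) F) : Module.End ℂ (sect F n (-1)) :=
  ratio (weilT hψ h2 g) • res (-1) (weilT hψ h2 g)

theorem weilOp_mul (g g' : Matrix.symplecticGroup (Fin n) F) :
    weilOp hψ h2 (g * g') = weilOp hψ h2 g * weilOp hψ h2 g' := by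
  obtain ⟨c, hc⟩ := int_unique ψ h2 hψ (weilT_spec hψ h2 (g * g')).1 (weilT_spec hψ h2 (g * g')).2
    (isInt_mul ψ (weilT_spec hψ h2 g).1 (weilT_spec hψ h2 g').1)
  have hc0 : c ≠ 0 := fun h => by
    have := (weilT_spec hψ h2 g).2.mul (weilT_spec hψ h2 g').2
    rw [hc, h, zero_smul] at this
    exact not_isUnit_zero this
  have e : (⟨(weilT hψ h2 g).1 * (weilT hψ h2 g').1, par_mul (weilT hψ h2 g).2 (weilT hψ h2 g').2⟩ :
      {T : Op // Par T}) = ⟨c • (weilT hψ h2 (g * g')).1, par_smul (weilT hψ h2 (g * g')).2 c⟩ :=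
    Subtype.ext hc
  have e1 := ratio_mul (weilT hψ h2 g) (weilT hψ h2 g')
  have e2 := res_mul (-1) (weilT hψ h2 g) (weilT hψ h2 g')
  rw [e] at e1 e2
  have e3 := ratio_smul h2 c hc0 (weilT hψ h2 (g * g'))
  rw [e1] at e3
  rw [res_smul] at e2
  simp only [weilOp]
  rw [smul_mul_assoc, mul_smul_comm, smul_smul, ← e2, smul_smul, e3]

theorem weilOp_isUnit (g : Matrix.symplecticGroup (Fin n) F) : IsUnit (weilOp hψ h2 g) := by
  have h := res_isUnit (-1) (weilT hψ h2 g) (weilT_spec hψ h2 g).2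
  rw [weilOp, Algebra.smul_def]
  exact IsUnit.mul ((Ne.isUnit (ratio_ne_zero _ (weilT_spec hψ h2 g).2)).map _) h

/-- The odd Weil representation. -/
noncomputable def weilRep : Representation ℂ (Matrix.symplecticGroup (Fin n) F) (sect F n (-1)) where
  toFun := weilOp hψ h2
  map_one' := by
    have h := weilOp_mul hψ h2 1 (1 : Matrix.symplecticGroup (Fin n) F)
    rw [one_mul] at h
    exact (weilOp_isUnit hψ h2 1).mul_left_cancel (h.symm.trans (mul_one _).symm)
  map_mul' := weilOp_mul hψ h2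

theorem weilRep_eigen {g : Matrix.symplecticGroup (Fin n) F} {T : Op} (hT : IsInt ψ g T)
    {f : sect F n (-1)} (hf : weilRep hψ h2 g f = f) :
    ∃ s : ℂ, T *ᵥ (f : Pt → ℂ) = s • (f : Pt → ℂ) := by
  obtain ⟨c, rfl⟩ := int_unique ψ h2 hψ (weilT_spec hψ h2 g).1 (weilT_spec hψ h2 g).2 hT
  refine ⟨c * (ratio (weilT hψ h2 g))⁻¹, ?_⟩
  have h : ratio (weilT hψ h2 g) • ((weilT hψ h2 g).1 *ᵥ (f : Pt → ℂ)) = (f : Pt → ℂ) := by
    rw [← res_apply]
    exact congrArg Subtype.val hf
  have h' : (weilT hψ h2 g).1 *ᵥ (f : Pt → ℂ) = (ratio (weilT hψ h2 g))⁻¹ • (f : Pt → ℂ) :=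
    (eq_inv_smul_iff₀ (ratio_ne_zero _ (weilT_spec hψ h2 g).2)).2 h
  rw [Matrix.smul_mulVec, h', smul_smul]

include h2 in
theorem isInt_lowU (X : Matrix (Fin n) (Fin n) F) (hX : X.IsSymm) :
    IsInt ψ (lowU X hX) (Matrix.diagonal fun x => ψ (-((x ⬝ᵥ X *ᵥ x) * (2 : F)⁻¹))) := by
  intro v
  refine Matrix.ext_of_mulVec_single fun j => funext fun x => ?_
  rw [← Matrix.mulVec_mulVec, ← Matrix.mulVec_mulVec, Matrix.mulVec_diagonal, dmat_mulVec, dmat_mulVec,
    Matrix.mulVec_diagonal, lowU_inl, lowU_inr, ← mul_assoc, ← mul_assoc, ← AddChar.map_add_eq_mul,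
    ← AddChar.map_add_eq_mul]
  congr 2
  have hs : ∀ a b : Pt, a ⬝ᵥ X *ᵥ b = b ⬝ᵥ X *ᵥ a := fun a b => by
    rw [Matrix.dotProduct_mulVec, ← Matrix.mulVec_transpose, hX.eq, dotProduct_comm]
  simp only [Matrix.mulVec_add, dotProduct_add, add_dotProduct]
  rw [dotProduct_comm (X *ᵥ (v ∘ Sum.inl)) x, dotProduct_comm (X *ᵥ (v ∘ Sum.inl)) (v ∘ Sum.inl),
    hs (v ∘ Sum.inl) x]
  field_simp
  ring

theorem isInt_levi (A B : Matrix (Fin n) (Fin n) F) (h : A * B = 1) :
    IsInt ψ (levi A B h) (Matrix.of fun i j => if j = B *ᵥ i then 1 else 0) := by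
  intro v
  have hT : ∀ (f : Pt → ℂ) x, ((Matrix.of fun i j => if j = B *ᵥ i then (1 : ℂ) else 0) *ᵥ f) x = f (B *ᵥ x) := by
    intro f x
    simp [Matrix.mulVec, dotProduct]
  have h' : B * A = 1 := mul_eq_one_comm.1 h
  refine Matrix.ext_of_mulVec_single fun j => funext fun x => ?_
  rw [← Matrix.mulVec_mulVec, ← Matrix.mulVec_mulVec, hT, dmat_mulVec, dmat_mulVec, hT, levi_inl, levi_inr,
    Matrix.mulVec_add, Matrix.mulVec_mulVec _ B A, h', Matrix.one_mulVec]
  congr 1
  congr 1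
  rw [Matrix.mulVec_transpose, ← Matrix.dotProduct_mulVec, ← Matrix.dotProduct_mulVec, Matrix.mulVec_mulVec _ B A,
    h', Matrix.one_mulVec]

end Cfsg.Agent.Weil
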