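import Mathlib
import Cfsg.Agent.Classical.SympGroup

/-!
The Schrödinger operators of the Heisenberg group over a finite field of odd order, and existence and
uniqueness of intertwiners for symplectic maps.
-/

set_option autoImplicit false

namespace Cfsg.Agent.Weil

open Matrix Cfsg.Agent.Classical

variable {F : Type*} [Field F] [Fintype F] [DecidableEq F] {n : ℕ}

local notation "Vec" => (Fin n ⊕ Fin n → F)
local notation "Pt" => (Fin n → F)
local notation "Op" => Matrix (Fin n → F) (Fin n → F) ℂ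

/-- The Schrödinger operator of a vector of the symplectic space. -/
def dmat (ψ : AddChar F ℂ) (v : Vec) : Op :=
  fun i j => if j = i + v ∘ Sum.inl then
    ψ ((v ∘ Sum.inr) ⬝ᵥ i + (v ∘ Sum.inr) ⬝ᵥ (v ∘ Sum.inl) * (2 : F)⁻¹) else 0

variable (ψ : AddChar F ℂ)

theorem sympB_split (u v : Vec) :
    sympB n F u v = (u ∘ Sum.inr) ⬝ᵥ (v ∘ Sum.inl) - (u ∘ Sum.inl) ⬝ᵥ (v ∘ Sum.inr) := by
  simp [sympB_eq_sum, dotProduct, Finset.sum_sub_distrib]

theorem dmat_mulVec (v : Vec) (f : Pt → ℂ) (x : Pt) :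
    (dmat ψ v *ᵥ f) x =
      ψ ((v ∘ Sum.inr) ⬝ᵥ x + (v ∘ Sum.inr) ⬝ᵥ (v ∘ Sum.inl) * (2 : F)⁻¹) * f (x + v ∘ Sum.inl) := by
  simp [Matrix.mulVec, dotProduct, dmat]

theorem dmat_zero : dmat ψ (0 : Vec) = 1 := by
  ext i j
  simp [dmat, Matrix.one_apply, eq_comm]

theorem dmat_mul (h2 : (2 : F) ≠ 0) (v w : Vec) :
    dmat ψ v * dmat ψ w = ψ (-(sympB n F v w) * (2 : F)⁻¹) • dmat ψ (v + w) := by
  refine Matrix.ext_of_mulVec_single fun j => funext fun x => ?_
  rw [← Matrix.mulVec_mulVec, Matrix.smul_mulVec, Pi.smul_apply, smul_eq_mul, dmat_mulVec, dmat_mulVec,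
    dmat_mulVec]
  have hl : (v + w) ∘ Sum.inl = v ∘ Sum.inl + w ∘ Sum.inl := rfl
  have hr : (v + w) ∘ Sum.inr = v ∘ Sum.inr + w ∘ Sum.inr := rfl
  rw [hl, hr, ← mul_assoc, ← mul_assoc, add_assoc x, ← AddChar.map_add_eq_mul, ← AddChar.map_add_eq_mul]
  congr 2
  rw [sympB_split]
  simp only [dotProduct_add, add_dotProduct]
  rw [dotProduct_comm (v ∘ Sum.inl) (w ∘ Sum.inr)]
  field_simp
  ring

theorem dmat_mul_neg (h2 : (2 : F) ≠ 0) (v : Vec) : dmat ψ v * dmat ψ (-v) = 1 := by
  rw [dmat_mul ψ h2, add_neg_cancel, dmat_zero, map_neg, sympB_isAlt v]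
  simp

theorem trace_dmat (hψ : ψ ≠ 1) (v : Vec) :
    (dmat ψ v).trace = if v = 0 then (Fintype.card Pt : ℂ) else 0 := by
  split_ifs with h
  · rw [h, dmat_zero, Matrix.trace_one]
  · simp only [Matrix.trace, Matrix.diag, dmat]
    by_cases ha : v ∘ Sum.inl = 0
    · obtain ⟨i, hi⟩ : ∃ i, v (Sum.inr i) ≠ 0 := by
        by_contra hc
        push Not at hc
        exact h (funext fun s => Sum.casesOn s (fun i => congrFun ha i) hc)
      let χ : AddChar Pt ℂ := ψ.compAddMonoidHom (dotProductBilin F F (v ∘ Sum.inr)).toAddMonoidHom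
      have hχ : χ ≠ 1 := by
        intro hc
        obtain ⟨a, ha'⟩ := AddChar.ne_one_iff.1 hψ
        apply ha'
        have := DFunLike.congr_fun hc (Pi.single i (a / v (Sum.inr i)))
        simpa [χ, mul_div_cancel₀ _ hi] using this
      simp only [ha, add_zero, if_true, dotProduct_zero, zero_mul]
      exact AddChar.sum_eq_zero_of_ne_one hχ
    · refine Finset.sum_eq_zero fun i _ => if_neg fun hc => ha ?_
      simpa using hc.symm

theorem linearIndependent_dmat (h2 : (2 : F) ≠ 0) (hψ : ψ ≠ 1) :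
    LinearIndependent ℂ (dmat ψ : Vec → Op) := by
  rw [Fintype.linearIndependent_iff]
  intro c hc w
  have h := congrArg (fun M => (M * dmat ψ (-w)).trace) hc
  simp only [Matrix.sum_mul, Matrix.trace_sum, Matrix.zero_mul, Matrix.trace_zero, Matrix.smul_mul,
    Matrix.trace_smul] at h
  rw [Finset.sum_eq_single w, dmat_mul_neg ψ h2, Matrix.trace_one, smul_eq_mul] at h
  · exact (mul_eq_zero.1 h).resolve_right (Nat.cast_ne_zero.2 Fintype.card_ne_zero)
  · intro b _ hb
    rw [dmat_mul ψ h2, Matrix.trace_smul, trace_dmat ψ hψ,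
      if_neg fun h => hb (by rwa [add_neg_eq_zero] at h), smul_zero, smul_zero]
  · simp

theorem span_dmat (h2 : (2 : F) ≠ 0) (hψ : ψ ≠ 1) : Submodule.span ℂ (Set.range (dmat ψ : Vec → Op)) = ⊤ := by
  refine (linearIndependent_dmat ψ h2 hψ).span_eq_top_of_card_eq_finrank ?_
  simp [Module.finrank_matrix, pow_add]

/-- Commuting with all Schrödinger operators forces a scalar. -/
theorem exists_scalar_of_commute (h2 : (2 : F) ≠ 0) (hψ : ψ ≠ 1) (M : Op)
    (hM : ∀ v, M * dmat ψ v = dmat ψ v * M) : ∃ c : ℂ, M = c • 1 := by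
  have key : ∀ N : Op, Commute M N := fun N => by
    have hN : N ∈ Submodule.span ℂ (Set.range (dmat ψ : Vec → Op)) := by rw [span_dmat ψ h2 hψ]; trivial
    induction hN using Submodule.span_induction with
    | mem x hx => obtain ⟨v, rfl⟩ := hx; exact hM v
    | zero => exact Commute.zero_right _
    | add x y _ _ h h' => exact h.add_right h'
    | smul a x _ h => exact h.smul_right a
  obtain ⟨c, hc⟩ := Matrix.mem_range_scalar_of_commute_single (M := M) fun i j _ => (key _).symm
  exact ⟨c, by rw [← hc, Matrix.scalar_apply, Matrix.smul_one_eq_diagonal]⟩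

/-- Intertwiners for a symplectic map. -/
def IsInt (g : Matrix.symplecticGroup (Fin n) F) (T : Op) : Prop :=
  ∀ v, T * dmat ψ v = dmat ψ ((g : Matrix (Fin n ⊕ Fin n) (Fin n ⊕ Fin n) F) *ᵥ v) * T

theorem isInt_smul {g : Matrix.symplecticGroup (Fin n) F} {T : Op} (h : IsInt ψ g T) (c : ℂ) :
    IsInt ψ g (c • T) := fun v => by rw [Matrix.smul_mul, h v, Matrix.mul_smul]

theorem isInt_mul {g g' : Matrix.symplecticGroup (Fin n) F} {T T' : Op} (h : IsInt ψ g T)
    (h' : IsInt ψ g' T') : IsInt ψ (g * g') (T * T') := fun v => by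
  rw [Matrix.mul_assoc, h' v, ← Matrix.mul_assoc, h _, Matrix.mul_assoc, Submonoid.coe_mul,
    Matrix.mulVec_mulVec]

theorem isInt_injective (h2 : (2 : F) ≠ 0) (hψ : ψ ≠ 1) {g : Matrix.symplecticGroup (Fin n) F} {T : Op}
    (h : IsInt ψ g T) (h0 : T ≠ 0) : IsUnit T := by
  refine Matrix.mulVec_injective_iff_isUnit.1 ((injective_iff_map_eq_zero T.mulVecLin).2 fun x hx => ?_)
  by_contra hx0
  have key : ∀ N : Op, T *ᵥ (N *ᵥ x) = 0 := fun N => by
    have hN : N ∈ Submodule.span ℂ (Set.range (dmat ψ : Vec → Op)) := by rw [span_dmat ψ h2 hψ]; trivial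
    induction hN using Submodule.span_induction with
    | mem y hy =>
      obtain ⟨v, rfl⟩ := hy
      rw [Matrix.mulVec_mulVec, h v, ← Matrix.mulVec_mulVec]
      rw [Matrix.mulVecLin_apply] at hx
      rw [hx, Matrix.mulVec_zero]
    | zero => simp
    | add a b _ _ ha hb => rw [Matrix.add_mulVec, Matrix.mulVec_add, ha, hb, add_zero]
    | smul a y _ hy => rw [Matrix.smul_mulVec, Matrix.mulVec_smul, hy, smul_zero]
  obtain ⟨i, hi⟩ := Function.ne_iff.1 hx0
  apply h0
  ext a j
  have h1 := congrFun (key (Matrix.single j i 1)) a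
  have h3 : Matrix.single j i (1 : ℂ) *ᵥ x = Pi.single j (x i) := by
    funext b
    rcases eq_or_ne b j with rfl | hb <;> simp [Matrix.single_mulVec, *]
  rw [h3] at h1
  have hi' : x i ≠ 0 := hi
  simpa [hi'] using h1

theorem exists_int (h2 : (2 : F) ≠ 0) (hψ : ψ ≠ 1) (g : Matrix.symplecticGroup (Fin n) F) :
    ∃ T : Op, IsInt ψ g T ∧ IsUnit T := by
  classical
  let G := (g : Matrix (Fin n ⊕ Fin n) (Fin n ⊕ Fin n) F)
  let avg : Op → Op := fun X => ∑ v, dmat ψ (G *ᵥ v) * X * dmat ψ (-v)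
  have hg : ∀ u v, sympB n F (G *ᵥ u) (G *ᵥ v) = sympB n F u v := (mem_symplectic_iff G).1 g.2
  have hint : ∀ X, IsInt ψ g (avg X) := by
    intro X w
    simp only [avg, Matrix.sum_mul, Matrix.mul_sum]
    refine Fintype.sum_equiv (Equiv.subRight w) _ _ fun u => ?_
    simp only [Equiv.subRight_apply]
    rw [Matrix.mul_assoc _ (dmat ψ (-u)), dmat_mul ψ h2, ← Matrix.mul_assoc (dmat ψ (G *ᵥ w)),
      ← Matrix.mul_assoc (dmat ψ (G *ᵥ w)), dmat_mul ψ h2, ← Matrix.mulVec_add, hg, Matrix.smul_mul,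
      Matrix.smul_mul, Matrix.mul_smul, add_sub_cancel, neg_sub, ← sub_eq_neg_add w u]
    congr 2
    simp [sympB_isAlt w]
    rw [sympB_eq_sum, sympB_eq_sum, ← neg_mul, ← Finset.sum_neg_distrib]
    congr 1
    exact Finset.sum_congr rfl fun i _ => by ring
  by_contra hc
  push Not at hc
  have hzero : ∀ X, avg X = 0 := fun X => by
    by_contra h
    exact hc _ (hint X) (isInt_injective ψ h2 hψ (hint X) h)
  have hentry : ∀ i j k l, ∑ v, dmat ψ (G *ᵥ v) i j * dmat ψ (-v) k l = 0 := by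
    intro i j k l
    have h := congrFun (congrFun (hzero (Matrix.single j k 1)) i) l
    simp only [avg, Matrix.sum_apply, Matrix.zero_apply] at h
    rw [← h]
    refine Finset.sum_congr rfl fun v _ => ?_
    rw [Matrix.mul_assoc, Matrix.mul_apply, Finset.sum_eq_single j]
    · simp
    · intro b _ hb; simp [hb]
    · simp
  have hinj : Function.Injective fun v => G *ᵥ v := (spLin g).injective
  have hli := (linearIndependent_dmat ψ h2 hψ).comp _ hinj
  rw [Fintype.linearIndependent_iff] at hli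
  have h0 := hli (fun v => dmat ψ (-v) 0 0) (by
    ext i j
    simp only [Matrix.sum_apply, Matrix.smul_apply, Function.comp_apply, smul_eq_mul, Matrix.zero_apply]
    rw [← hentry i j 0 0]
    exact Finset.sum_congr rfl fun v _ => mul_comm _ _) 0
  simp [dmat_zero] at h0

theorem int_unique (h2 : (2 : F) ≠ 0) (hψ : ψ ≠ 1) {g : Matrix.symplecticGroup (Fin n) F} {T T' : Op}
    (h : IsInt ψ g T) (hu : IsUnit T) (h' : IsInt ψ g T') : ∃ c : ℂ, T' = c • T := by
  obtain ⟨U, rfl⟩ := hu
  obtain ⟨c, hc⟩ := exists_scalar_of_commute ψ h2 hψ ((↑U⁻¹ : Op) * T') fun v => by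
    have e : (↑U⁻¹ : Op) * dmat ψ ((g : Matrix (Fin n ⊕ Fin n) (Fin n ⊕ Fin n) F) *ᵥ v) =
        dmat ψ v * (↑U⁻¹ : Op) := by
      rw [Units.inv_mul_eq_iff_eq_mul, ← Matrix.mul_assoc, h v, Matrix.mul_assoc, Units.mul_inv,
        Matrix.mul_one]
    rw [Matrix.mul_assoc, h' v, ← Matrix.mul_assoc, e, Matrix.mul_assoc]
  refine ⟨c, ?_⟩
  rw [Units.inv_mul_eq_iff_eq_mul] at hc
  rw [hc, Matrix.mul_smul, Matrix.mul_one]

/-- The parity symmetry. -/
def Par (T : Op) : Prop := ∀ i j, T (-i) (-j) = T i j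

theorem par_mul {T T' : Op} (h : Par T) (h' : Par T') : Par (T * T') := fun i j => by
  rw [Matrix.mul_apply, Matrix.mul_apply]
  refine Fintype.sum_equiv (Equiv.neg _) _ _ fun k => ?_
  simp only [Equiv.neg_apply]
  rw [← h i (-k), ← h' (-k) j, neg_neg]

theorem par_smul {T : Op} (h : Par T) (c : ℂ) : Par (c • T) := fun i j => by
  simp [Matrix.smul_apply, h i j]

theorem int_par (h2 : (2 : F) ≠ 0) (hψ : ψ ≠ 1) {g : Matrix.symplecticGroup (Fin n) F} {T : Op}
    (h : IsInt ψ g T) (hu : IsUnit T) : Par T := by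
  let T' : Op := fun i j => T (-i) (-j)
  have hD : ∀ (v : Vec) i j, dmat ψ v (-i) (-j) = dmat ψ (-v) i j := by
    intro v i j
    simp only [dmat]
    have e1 : (-v) ∘ Sum.inl = -(v ∘ Sum.inl) := rfl
    have e2 : (-v) ∘ Sum.inr = -(v ∘ Sum.inr) := rfl
    simp only [e1, e2, dotProduct_neg, neg_dotProduct, neg_neg]
    have : -j = -i + v ∘ Sum.inl ↔ j = i + -(v ∘ Sum.inl) := by
      constructor <;> intro e
      · rw [← neg_neg j, e]; abel
      · rw [e]; abel
    simp only [this]
  have h' : IsInt ψ g T' := by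
    intro v
    ext i j
    have := congrFun (congrFun (h (-v)) (-i)) (-j)
    rw [Matrix.mul_apply, Matrix.mul_apply] at this ⊢
    rw [← Equiv.sum_comp (Equiv.neg _)] at this
    conv_rhs at this => rw [← Equiv.sum_comp (Equiv.neg _)]
    simp only [Equiv.neg_apply, hD, neg_neg, Matrix.mulVec_neg] at this
    exact this
  obtain ⟨c, hc⟩ := int_unique ψ h2 hψ h hu h'
  have hc2 : c * c = 1 := by
    obtain ⟨i, j, hij⟩ : ∃ i j, T i j ≠ 0 := by
      by_contra hn
      push Not at hn
      have : T = 0 := Matrix.ext hn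
      exact not_isUnit_zero (this ▸ hu)
    have e1 : T (-i) (-j) = c * T i j := congrFun (congrFun hc i) j
    have e2 : T i j = c * T (-i) (-j) := by simpa [T'] using congrFun (congrFun hc (-i)) (-j)
    rw [e1, ← mul_assoc] at e2
    exact mul_right_cancel₀ hij (e2.symm.trans (one_mul _).symm)
  rcases mul_self_eq_one_iff.1 hc2 with hc1 | hc1
  · intro i j
    simpa [T', hc1] using congrFun (congrFun hc i) j
  · exfalso
    obtain ⟨U, rfl⟩ := hu
    let P : Op := Matrix.of fun i j => if j = -i then 1 else 0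
    have hanti : P * (U : Op) * P = -(U : Op) := by
      ext i j
      have e := congrFun (congrFun hc i) j
      simp only [T', hc1, neg_smul, one_smul, Matrix.neg_apply] at e
      have hsw : ∀ k : Fin n → F, j = -k ↔ k = -j := fun k => ⟨fun h => by rw [h, neg_neg], fun h => by rw [h, neg_neg]⟩
      simp [P, Matrix.mul_apply, ← e, hsw]
    have hPP : P * P = 1 := by
      ext i j
      have hsw : ∀ k : Fin n → F, j = -k ↔ k = -j := fun k => ⟨fun h => by rw [h, neg_neg], fun h => by rw [h, neg_neg]⟩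
      simp [P, Matrix.mul_apply, Matrix.one_apply, hsw, eq_comm]
    have hPU : P * (U : Op) = -((U : Op) * P) := by
      calc P * (U : Op) = P * (U : Op) * P * P := by rw [Matrix.mul_assoc _ P P, hPP, Matrix.mul_one]
        _ = -((U : Op) * P) := by rw [hanti, Matrix.neg_mul]
    have htr : P.trace = 0 := by
      have : (P * (U : Op) * (↑U⁻¹ : Op)).trace = P.trace := by
        rw [Matrix.mul_assoc, Units.mul_inv, Matrix.mul_one]
      rw [hPU, Matrix.neg_mul, Matrix.trace_neg, Matrix.trace_mul_cycle, Units.inv_mul, Matrix.one_mul] at this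
      linear_combination -(1 / 2 : ℂ) * this
    have hone : P.trace = 1 := by
      rw [Matrix.trace, Finset.sum_eq_single 0]
      · simp [P]
      · intro b _ hb
        simp only [Matrix.diag, P]
        refine if_neg fun e => hb ?_
        funext i
        have := congrFun e i
        have e2 : (2 : F) * b i = 0 := by simp at this; linear_combination this
        simpa [h2] using e2
      · simp
    rw [hone] at htr
    exact one_ne_zero htr

end Cfsg.Agent.Weil
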